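import Mathlib

/-!
# A real element of odd order with commutative centralizer in `PSL(2, q)`

For `q = 2 ^ n`, `n ≥ 2`, or `q ≡ 3, 5 mod 8`, `q ≥ 5`.
-/

set_option autoImplicit false

namespace Cfsg.Agent.H611.PslTwo

open Matrix

variable {F : Type*} [Field F]

/-- Elements of `PSL` commute iff the lifts commute up to a sign. -/
theorem exists_scalar (A B : Matrix.SpecialLinearGroup (Fin 2) F)
    (h : Commute (QuotientGroup.mk A : Matrix.ProjectiveSpecialLinearGroup (Fin 2) F)
      (QuotientGroup.mk B)) :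
    ∃ r : F, r ^ 2 = 1 ∧
      (A : Matrix (Fin 2) (Fin 2) F) * B = r • ((B : Matrix (Fin 2) (Fin 2) F) * A) := by
  have h1 : (QuotientGroup.mk (B * A) : Matrix.ProjectiveSpecialLinearGroup (Fin 2) F) =
      QuotientGroup.mk (A * B) := by
    rw [QuotientGroup.mk_mul, QuotientGroup.mk_mul]
    exact h.symm
  rw [QuotientGroup.eq, Matrix.SpecialLinearGroup.mem_center_iff] at h1
  obtain ⟨r, hr, h2⟩ := h1
  refine ⟨r, by simpa using hr, ?_⟩
  have h3 : A * B = (B * A) * ((B * A)⁻¹ * (A * B)) := by group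
  have h4 : ((A * B : Matrix.SpecialLinearGroup (Fin 2) F) : Matrix (Fin 2) (Fin 2) F) =
      ((B * A : Matrix.SpecialLinearGroup (Fin 2) F) : Matrix (Fin 2) (Fin 2) F) *
      (((B * A)⁻¹ * (A * B) : Matrix.SpecialLinearGroup (Fin 2) F) :
        Matrix (Fin 2) (Fin 2) F) := by
    rw [← Matrix.SpecialLinearGroup.coe_mul, ← h3]
  rw [← h2, Matrix.SpecialLinearGroup.coe_mul, Matrix.SpecialLinearGroup.coe_mul] at h4
  rw [h4, Matrix.scalar_apply]
  ext i j
  rw [Matrix.mul_diagonal, Matrix.smul_apply, smul_eq_mul, mul_comm]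

/-- The diagonal element. -/
def dg (a : F) (ha : a ≠ 0) : Matrix.SpecialLinearGroup (Fin 2) F :=
  ⟨!![a, 0; 0, a⁻¹], by rw [Matrix.det_fin_two_of]; field_simp; simp⟩

/-- The unipotent element. -/
def up (b : F) : Matrix.SpecialLinearGroup (Fin 2) F :=
  ⟨!![1, b; 0, 1], by rw [Matrix.det_fin_two_of]; ring⟩

/-- The Weyl element. -/
def wl : Matrix.SpecialLinearGroup (Fin 2) F :=
  ⟨!![0, 1; -1, 0], by rw [Matrix.det_fin_two_of]; ring⟩

theorem ext_iff' {A B : Matrix.SpecialLinearGroup (Fin 2) F} :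
    A = B ↔ A.1 0 0 = B.1 0 0 ∧ A.1 0 1 = B.1 0 1 ∧ A.1 1 0 = B.1 1 0 ∧ A.1 1 1 = B.1 1 1 := by
  constructor
  · rintro rfl
    exact ⟨rfl, rfl, rfl, rfl⟩
  · rintro ⟨h1, h2, h3, h4⟩
    apply Subtype.ext
    ext i j
    fin_cases i <;> fin_cases j <;> assumption

theorem mul_apply' (A B : Matrix.SpecialLinearGroup (Fin 2) F) (i j : Fin 2) :
    (A * B).1 i j = A.1 i 0 * B.1 0 j + A.1 i 1 * B.1 1 j := by
  have : (A * B).1 = A.1 * B.1 := rfl
  rw [this, Matrix.mul_apply, Fin.sum_univ_two]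

theorem inv_entries (A : Matrix.SpecialLinearGroup (Fin 2) F) :
    (A⁻¹).1 0 0 = A.1 1 1 ∧ (A⁻¹).1 0 1 = - A.1 0 1 ∧ (A⁻¹).1 1 0 = - A.1 1 0 ∧
      (A⁻¹).1 1 1 = A.1 0 0 := by
  have : (A⁻¹).1 = Matrix.adjugate A.1 := rfl
  rw [this, Matrix.adjugate_fin_two]
  exact ⟨rfl, rfl, rfl, rfl⟩

theorem one_entries : (1 : Matrix.SpecialLinearGroup (Fin 2) F).1 0 0 = 1 ∧
    (1 : Matrix.SpecialLinearGroup (Fin 2) F).1 0 1 = 0 ∧
    (1 : Matrix.SpecialLinearGroup (Fin 2) F).1 1 0 = 0 ∧
    (1 : Matrix.SpecialLinearGroup (Fin 2) F).1 1 1 = 1 := by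
  have : (1 : Matrix.SpecialLinearGroup (Fin 2) F).1 = 1 := rfl
  rw [this]
  simp

theorem dg00 (a : F) (ha : a ≠ 0) : (dg a ha).1 0 0 = a := rfl
theorem dg01 (a : F) (ha : a ≠ 0) : (dg a ha).1 0 1 = 0 := rfl
theorem dg10 (a : F) (ha : a ≠ 0) : (dg a ha).1 1 0 = 0 := rfl
theorem dg11 (a : F) (ha : a ≠ 0) : (dg a ha).1 1 1 = a⁻¹ := rfl
theorem up00 (b : F) : (up b).1 0 0 = 1 := rfl
theorem up01 (b : F) : (up b).1 0 1 = b := rfl
theorem up10 (b : F) : (up b).1 1 0 = 0 := rfl
theorem up11 (b : F) : (up b).1 1 1 = 1 := rfl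
theorem wl00 : (wl : Matrix.SpecialLinearGroup (Fin 2) F).1 0 0 = 0 := rfl
theorem wl01 : (wl : Matrix.SpecialLinearGroup (Fin 2) F).1 0 1 = 1 := rfl
theorem wl10 : (wl : Matrix.SpecialLinearGroup (Fin 2) F).1 1 0 = -1 := rfl
theorem wl11 : (wl : Matrix.SpecialLinearGroup (Fin 2) F).1 1 1 = 0 := rfl

theorem det_eq (A : Matrix.SpecialLinearGroup (Fin 2) F) :
    A.1 0 0 * A.1 1 1 - A.1 0 1 * A.1 1 0 = 1 := by
  rw [← Matrix.det_fin_two]
  exact A.2

theorem sq_eq_one {r : F} (h : r ^ 2 = 1) : r = 1 ∨ r = -1 := by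
  have h1 : (r - 1) * (r + 1) = 0 := by linear_combination h
  rcases mul_eq_zero.1 h1 with h2 | h2
  · exact Or.inl (sub_eq_zero.1 h2)
  · exact Or.inr (eq_neg_of_add_eq_zero_left h2)

/-- The entries of the relation `A B = r (B A)`. -/
theorem entries {A B : Matrix (Fin 2) (Fin 2) F} {r : F} (h : A * B = r • (B * A)) :
    A 0 0 * B 0 0 + A 0 1 * B 1 0 = r * (B 0 0 * A 0 0 + B 0 1 * A 1 0) ∧
    A 0 0 * B 0 1 + A 0 1 * B 1 1 = r * (B 0 0 * A 0 1 + B 0 1 * A 1 1) ∧
    A 1 0 * B 0 0 + A 1 1 * B 1 0 = r * (B 1 0 * A 0 0 + B 1 1 * A 1 0) ∧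
    A 1 0 * B 0 1 + A 1 1 * B 1 1 = r * (B 1 0 * A 0 1 + B 1 1 * A 1 1) := by
  have e : ∀ i j, (A * B) i j = (r • (B * A)) i j := fun i j => by rw [h]
  simp only [Matrix.mul_apply, Fin.sum_univ_two, Matrix.smul_apply, smul_eq_mul] at e
  exact ⟨e 0 0, e 0 1, e 1 0, e 1 1⟩

/-- Matrices commuting with the diagonal element up to sign are diagonal. -/
theorem diag_of_commute {a : F} (ha : a ≠ 0) (h1 : a ^ 2 ≠ 1) (h2 : a ^ 2 ≠ -1)
    (A : Matrix.SpecialLinearGroup (Fin 2) F)
    (h : Commute (QuotientGroup.mk A : Matrix.ProjectiveSpecialLinearGroup (Fin 2) F)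
      (QuotientGroup.mk (dg a ha))) : A.1 0 1 = 0 ∧ A.1 1 0 = 0 := by
  obtain ⟨r, hr, h3⟩ := exists_scalar A (dg a ha) h
  obtain ⟨-, e2, e3, -⟩ := entries h3
  have d00 : (dg a ha).1 0 0 = a := rfl
  have d01 : (dg a ha).1 0 1 = 0 := rfl
  have d10 : (dg a ha).1 1 0 = 0 := rfl
  have d11 : (dg a ha).1 1 1 = a⁻¹ := rfl
  rw [d00, d01, d11] at e2
  rw [d00, d10, d11] at e3
  have hinv : a * a⁻¹ = 1 := mul_inv_cancel₀ ha
  constructor
  · -- `q (1 - r a ^ 2) = 0`
    have e4 : A.1 0 1 * (1 - r * a ^ 2) = 0 := by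
      linear_combination a * e2 - (A.1 0 1) * hinv
    rcases mul_eq_zero.1 e4 with h4 | h4
    · exact h4
    · exfalso
      rcases sq_eq_one hr with rfl | rfl
      · exact h1 (by linear_combination -h4)
      · exact h2 (by linear_combination h4)
  · have e4 : A.1 1 0 * (a ^ 2 - r) = 0 := by
      linear_combination a * e3 + (r * A.1 1 0) * hinv
    rcases mul_eq_zero.1 e4 with h4 | h4
    · exact h4
    · exfalso
      rcases sq_eq_one hr with rfl | rfl
      · exact h1 (by linear_combination h4)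
      · exact h2 (by linear_combination h4)

/-- The diagonal case. -/
theorem exists_real_diag {a : F} (ha : a ≠ 0) (h1 : a ^ 2 ≠ 1) (h2 : a ^ 2 ≠ -1) {m : ℕ}
    (hm : Odd m) (ham : a ^ m = 1) :
    ∃ x : Matrix.ProjectiveSpecialLinearGroup (Fin 2) F, x ≠ 1 ∧ Odd (orderOf x) ∧
      IsConj x x⁻¹ ∧ ∀ g h : Matrix.ProjectiveSpecialLinearGroup (Fin 2) F,
        Commute g x → Commute h x → Commute g h := by
  refine ⟨QuotientGroup.mk (dg a ha), ?_, ?_, ?_, ?_⟩
  · intro h
    rw [QuotientGroup.eq_one_iff, Matrix.SpecialLinearGroup.mem_center_iff] at h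
    obtain ⟨r, -, h3⟩ := h
    have e1 : r = a := by
      have := congrFun (congrFun h3 0) 0
      simpa [Matrix.scalar_apply, dg] using this
    have e2 : r = a⁻¹ := by
      have := congrFun (congrFun h3 1) 1
      simpa [Matrix.scalar_apply, dg] using this
    apply h1
    rw [pow_two]
    nth_rewrite 2 [← e1]
    rw [e2, mul_inv_cancel₀ ha]
  · have hpow : ∀ n : ℕ, (dg a ha) ^ n = dg (a ^ n) (pow_ne_zero n ha) := by
      intro n
      induction n with
      | zero =>
        rw [ext_iff', pow_zero]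
        obtain ⟨o1, o2, o3, o4⟩ := one_entries (F := F)
        rw [o1, o2, o3, o4, dg00, dg01, dg10, dg11]
        simp
      | succ n ih =>
        rw [pow_succ, ih, ext_iff']
        simp only [mul_apply', dg00, dg01, dg10, dg11]
        refine ⟨by ring, by ring, by ring, ?_⟩
        rw [mul_zero, zero_add, ← mul_inv, pow_succ]
    have h3 : (QuotientGroup.mk (dg a ha) : Matrix.ProjectiveSpecialLinearGroup (Fin 2) F) ^ m =
        1 := by
      rw [← QuotientGroup.mk_pow, hpow]
      have : dg (a ^ m) (pow_ne_zero m ha) = 1 := by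
        obtain ⟨o1, o2, o3, o4⟩ := one_entries (F := F)
        rw [ext_iff', o1, o2, o3, o4, dg00, dg01, dg10, dg11, ham]
        simp
      rw [this, QuotientGroup.mk_one]
    exact hm.of_dvd_nat (orderOf_dvd_of_pow_eq_one h3)
  · refine isConj_iff.2 ⟨QuotientGroup.mk wl, ?_⟩
    rw [← QuotientGroup.mk_inv, ← QuotientGroup.mk_inv, ← QuotientGroup.mk_mul,
      ← QuotientGroup.mk_mul]
    congr 1
    obtain ⟨i1, i2, i3, i4⟩ := inv_entries (dg a ha)
    rw [mul_inv_eq_iff_eq_mul, ext_iff']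
    simp only [mul_apply', i1, i2, i3, i4, dg00, dg01, dg10, dg11, wl00, wl01, wl10, wl11]
    refine ⟨by ring, by ring, by ring, by ring⟩
  · intro g h
    obtain ⟨A, rfl⟩ := QuotientGroup.mk_surjective g
    obtain ⟨B, rfl⟩ := QuotientGroup.mk_surjective h
    intro hA hB
    obtain ⟨a1, a2⟩ := diag_of_commute ha h1 h2 A hA
    obtain ⟨b1, b2⟩ := diag_of_commute ha h1 h2 B hB
    have : A * B = B * A := by
      rw [ext_iff']
      simp only [mul_apply', a1, a2, b1, b2]
      refine ⟨by ring, by ring, by ring, by ring⟩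
    show _ * _ = _ * _
    rw [← QuotientGroup.mk_mul, this, QuotientGroup.mk_mul]

/-- Matrices commuting with the unipotent element up to sign. -/
theorem up_of_commute (h2 : (2 : F) ≠ 0)
    (A : Matrix.SpecialLinearGroup (Fin 2) F)
    (h : Commute (QuotientGroup.mk A : Matrix.ProjectiveSpecialLinearGroup (Fin 2) F)
      (QuotientGroup.mk (up 1))) : A.1 1 0 = 0 ∧ A.1 0 0 = A.1 1 1 := by
  obtain ⟨r, hr, h3⟩ := exists_scalar A (up 1) h
  obtain ⟨e1, e2, e3, e4⟩ := entries h3
  have d00 : (up (1 : F)).1 0 0 = 1 := rfl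
  have d01 : (up (1 : F)).1 0 1 = 1 := rfl
  have d10 : (up (1 : F)).1 1 0 = 0 := rfl
  have d11 : (up (1 : F)).1 1 1 = 1 := rfl
  rw [d00, d01, d10] at e1
  rw [d00, d01, d11] at e2
  rw [d00, d10, d11] at e3
  rw [d01, d10, d11] at e4
  have hdet := det_eq A
  rcases sq_eq_one hr with rfl | rfl
  · exact ⟨by linear_combination -e1, by linear_combination e2⟩
  · exfalso
    have h5 : A.1 1 0 = 0 := by
      have : 2 * A.1 1 0 = 0 := by linear_combination e3
      exact (mul_eq_zero.1 this).resolve_left h2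
    have h6 : A.1 0 0 = 0 := by
      have : 2 * A.1 0 0 = 0 := by linear_combination e1 - h5
      exact (mul_eq_zero.1 this).resolve_left h2
    rw [h5, h6] at hdet
    simp at hdet

/-- The unipotent case. -/
theorem exists_real_up [Finite F] (h2 : (2 : F) ≠ 0) {i : F} (hi : i ^ 2 = -1) :
    ∃ x : Matrix.ProjectiveSpecialLinearGroup (Fin 2) F, x ≠ 1 ∧ Odd (orderOf x) ∧
      IsConj x x⁻¹ ∧ ∀ g h : Matrix.ProjectiveSpecialLinearGroup (Fin 2) F,
        Commute g x → Commute h x → Commute g h := by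
  have hi0 : i ≠ 0 := by
    rintro rfl
    simp at hi
  refine ⟨QuotientGroup.mk (up 1), ?_, ?_, ?_, ?_⟩
  · intro h
    rw [QuotientGroup.eq_one_iff, Matrix.SpecialLinearGroup.mem_center_iff] at h
    obtain ⟨r, -, h3⟩ := h
    have := congrFun (congrFun h3 0) 1
    simp [Matrix.scalar_apply, up] at this
  · have hpow : ∀ n : ℕ, (up (1 : F)) ^ n = up (n : F) := by
      intro n
      induction n with
      | zero =>
        obtain ⟨o1, o2, o3, o4⟩ := one_entries (F := F)
        rw [ext_iff', pow_zero, o1, o2, o3, o4, up00, up01, up10, up11]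
        simp
      | succ n ih =>
        rw [pow_succ, ih, ext_iff']
        simp only [mul_apply', up00, up01, up10, up11]
        push_cast
        refine ⟨by ring, by ring, by ring, by ring⟩
    obtain ⟨p, hp⟩ := CharP.exists F
    have hpp : p.Prime := by
      rcases CharP.char_is_prime_or_zero F p with h | h
      · exact h
      · exfalso
        subst h
        have := CharP.charP_to_charZero F
        exact not_finite F
    have hpodd : Odd p := by
      apply hpp.odd_of_ne_two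
      rintro rfl
      apply h2
      exact_mod_cast CharP.cast_eq_zero F 2
    have h3 : (QuotientGroup.mk (up (1 : F)) :
        Matrix.ProjectiveSpecialLinearGroup (Fin 2) F) ^ p = 1 := by
      rw [← QuotientGroup.mk_pow, hpow, CharP.cast_eq_zero]
      have : up (0 : F) = 1 := by
        obtain ⟨o1, o2, o3, o4⟩ := one_entries (F := F)
        rw [ext_iff', o1, o2, o3, o4, up00, up01, up10, up11]
        simp
      rw [this, QuotientGroup.mk_one]
    exact hpodd.of_dvd_nat (orderOf_dvd_of_pow_eq_one h3)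
  · refine isConj_iff.2 ⟨QuotientGroup.mk (dg i hi0), ?_⟩
    rw [← QuotientGroup.mk_inv, ← QuotientGroup.mk_inv, ← QuotientGroup.mk_mul,
      ← QuotientGroup.mk_mul]
    congr 1
    have hii : i⁻¹ = -i := by
      apply inv_eq_of_mul_eq_one_right
      linear_combination -hi
    obtain ⟨i1, i2, i3, i4⟩ := inv_entries (up (1 : F))
    rw [mul_inv_eq_iff_eq_mul, ext_iff']
    simp only [mul_apply', i1, i2, i3, i4, dg00, dg01, dg10, dg11, up00, up01, up10, up11, hii]
    refine ⟨by ring, by ring, by ring, by ring⟩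
  · intro g h
    obtain ⟨A, rfl⟩ := QuotientGroup.mk_surjective g
    obtain ⟨B, rfl⟩ := QuotientGroup.mk_surjective h
    intro hA hB
    obtain ⟨a1, a2⟩ := up_of_commute h2 A hA
    obtain ⟨b1, b2⟩ := up_of_commute h2 B hB
    have : A * B = B * A := by
      rw [ext_iff']
      simp only [mul_apply', a1, a2, b1, b2]
      refine ⟨by ring, by ring, by ring, by ring⟩
    show _ * _ = _ * _
    rw [← QuotientGroup.mk_mul, this, QuotientGroup.mk_mul]

/-- **The result for `PSL(2, q)`.** -/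
theorem exists_real [Fintype F]
    (hF : (∃ n : ℕ, 2 ≤ n ∧ Fintype.card F = 2 ^ n) ∨
      (Fintype.card F % 8 = 3 ∨ Fintype.card F % 8 = 5) ∧ 5 ≤ Fintype.card F) :
    ∃ x : Matrix.ProjectiveSpecialLinearGroup (Fin 2) F, x ≠ 1 ∧ Odd (orderOf x) ∧
      IsConj x x⁻¹ ∧ ∀ g h : Matrix.ProjectiveSpecialLinearGroup (Fin 2) F,
        Commute g x → Commute h x → Commute g h := by
  classical
  rcases hF with ⟨n, hn, hF⟩ | ⟨hF, h5⟩
  · -- characteristic two
    have hchar : CharP F 2 := by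
      obtain ⟨p, hp⟩ := CharP.exists F
      obtain ⟨m, hpp, hm⟩ := FiniteField.card F p
      rw [hF] at hm
      have h1 : p ∣ 2 ^ n := hm ▸ dvd_pow_self p m.2.ne'
      have h2 : p = 2 := (Nat.prime_dvd_prime_iff_eq hpp Nat.prime_two).1 (hpp.dvd_of_dvd_pow h1)
      rwa [h2] at hp
    have h4 : 4 ≤ Fintype.card F := by
      rw [hF]
      calc 4 = 2 ^ 2 := by norm_num
        _ ≤ 2 ^ n := Nat.pow_le_pow_right (by norm_num) hn
    obtain ⟨a, ha⟩ : ∃ a : F, a ∉ ({0, 1} : Finset F) := by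
      by_contra hcon
      push Not at hcon
      have : Fintype.card F ≤ 2 := by
        rw [← Finset.card_univ]
        exact (Finset.card_le_card fun x _ => hcon x).trans Finset.card_le_two
      omega
    rw [Finset.mem_insert, Finset.mem_singleton, not_or] at ha
    have h1 : a ^ 2 ≠ 1 := by
      intro h
      rcases sq_eq_one h with h | h
      · exact ha.2 h
      · rw [CharTwo.neg_eq] at h
        exact ha.2 h
    refine exists_real_diag ha.1 h1 (by rwa [CharTwo.neg_eq]) (m := Fintype.card F - 1) ?_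
      (FiniteField.pow_card_sub_one_eq_one a ha.1)
    rw [hF]
    refine Nat.Even.sub_odd (Nat.one_le_pow _ _ (by norm_num)) ?_ odd_one
    exact (even_two).pow_of_ne_zero (by omega)
  · have h2 : (2 : F) ≠ 0 := by
      intro h
      have hchar : CharP F 2 := CharTwo.of_one_ne_zero_of_two_eq_zero one_ne_zero h
      have h1 := FiniteField.even_card_iff_char_two (F := F)
      have h3 : ringChar F = 2 := ringChar.eq F 2
      have := h1.1 h3
      omega
    by_cases h3 : Fintype.card F % 8 = 3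
    · -- `q ≡ 3 mod 8`
      obtain ⟨g, hg⟩ := IsCyclic.exists_generator (α := Fˣ)
      have hord : orderOf g = Fintype.card F - 1 := by
        rw [orderOf_eq_card_of_forall_mem_zpowers hg, Nat.card_eq_fintype_card,
          Fintype.card_units]
      set a : F := ((g ^ 2 : Fˣ) : F) with ha
      set m := (Fintype.card F - 1) / 2 with hm
      have hm2 : 2 * m = Fintype.card F - 1 := by omega
      have hmodd : Odd m := by
        rw [Nat.odd_iff]
        omega
      have ham : a ^ m = 1 := by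
        rw [ha, ← Units.val_pow_eq_pow_val, ← pow_mul, hm2, ← hord, pow_orderOf_eq_one,
          Units.val_one]
      have h1 : a ^ 2 ≠ 1 := by
        intro h
        rw [ha, ← Units.val_pow_eq_pow_val, ← pow_mul, Units.val_eq_one] at h
        have := orderOf_dvd_of_pow_eq_one h
        rw [hord] at this
        have := Nat.le_of_dvd (by norm_num) this
        omega
      refine exists_real_diag (Units.ne_zero _) h1 ?_ hmodd ham
      intro h
      -- `a ^ 2` has odd order
      have h4 : (a ^ 2) ^ m = 1 := by rw [← pow_mul, mul_comm, pow_mul, ham, one_pow]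
      rw [h, hmodd.neg_one_pow] at h4
      apply h2
      linear_combination -h4
    · -- `q ≡ 5 mod 8`
      have h5' : Fintype.card F % 8 = 5 := by tauto
      have hsq : IsSquare (-1 : F) := by
        rw [FiniteField.isSquare_neg_one_iff]
        omega
      obtain ⟨i, hi⟩ := hsq
      exact exists_real_up h2 (i := i) (by rw [pow_two]; exact hi.symm)

end Cfsg.Agent.H611.PslTwo
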