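import Cfsg.Agent.H611.RealBlock
import Cfsg.Agent.OddOrderCharacters.GaloisTwist
import Cfsg.Agent.Blocks.PPart
import Cfsg.Agent.CharDeep.PowerDegrees

/-!
# Characters of even degree fixed by an involution on the irreducible characters

* `exists_even`: the parity argument. Let `σ` be an involution on a `σ`-stable set `B` of
  irreducible characters preserving degrees, and `c` a `σ`-invariant family of local integers (at a
  maximal ideal over `2`). If `(∑ c χ * χ 1) ^ 2 - ∑ (c χ) ^ 2` is not in the local ideal, then some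
  `σ`-fixed `χ ∈ B` has even degree and `c χ` is not in the local ideal.
* `Twist k`: `g ^ k = g` for `2`-elements and `g ^ k = g⁻¹` for elements of odd order.
* `powIrr`: the character `g ↦ χ (g ^ k)`.
-/

set_option autoImplicit false

namespace Cfsg.Agent.H611.EvenFixed

open Cfsg
open scoped ComplexConjugate
open Cfsg.Agent.Blocks

/-- In characteristic two, a sum over a set with an involution under which the summand is invariant
is the sum over the fixed points. -/
theorem sum_eq_sum_fixed {ι K : Type*} [DecidableEq ι] [CommRing K] [CharP K 2] (B : Finset ι)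
    (σ : ι → ι)
    (hσ : ∀ i ∈ B, σ (σ i) = i) (hσB : ∀ i ∈ B, σ i ∈ B) (f : ι → K)
    (hf : ∀ i ∈ B, f (σ i) = f i) :
    ∑ i ∈ B, f i = ∑ i ∈ B.filter (fun i => σ i = i), f i := by
  rw [← Finset.sum_filter_add_sum_filter_not B (fun i => σ i = i)]
  rw [add_eq_left]
  refine Finset.sum_involution (fun i _ => σ i) ?_ ?_ ?_ ?_
  · intro i hi
    rw [Finset.mem_filter] at hi
    rw [hf i hi.1]
    exact CharTwo.add_self_eq_zero _
  · intro i hi _
    rw [Finset.mem_filter] at hi
    exact hi.2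
  · intro i hi
    rw [Finset.mem_filter] at hi ⊢
    refine ⟨hσB i hi.1, fun h => hi.2 ?_⟩
    rw [hσ i hi.1] at h
    exact h.symm
  · intro i hi
    rw [Finset.mem_filter] at hi
    exact hσ i hi.1

variable {G : Type*} [Group G]

/-- **The parity argument.** -/
theorem exists_even [Finite G] {M : Ideal AlgInt} (hM : IsPModular 2 M)
    (B : Finset (IrrCharacter G)) (σ : IrrCharacter G → IrrCharacter G)
    (hσ : ∀ χ ∈ B, σ (σ χ) = χ) (hσB : ∀ χ ∈ B, σ χ ∈ B)
    (hσ1 : ∀ χ ∈ B, (σ χ : G → ℂ) 1 = (χ : G → ℂ) 1)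
    (c : IrrCharacter G → ℂ) (hc : ∀ χ ∈ B, MemLocalRing M (c χ))
    (hcσ : ∀ χ ∈ B, c (σ χ) = c χ)
    (hne : ¬ MemLocalIdeal M
      ((∑ χ ∈ B, c χ * (χ : G → ℂ) 1) ^ 2 - ∑ χ ∈ B, c χ ^ 2)) :
    ∃ χ ∈ B, σ χ = χ ∧ Even (charDegree (χ : G → ℂ)) ∧ ¬ MemLocalIdeal M (c χ) := by
  classical
  have hprime : M.IsPrime := Local.isPrime_of_isPModular hM
  have hchar : CharP (Local.ResField M) 2 := Local.charP_resField hM
  by_contra hcon
  push Not at hcon
  apply hne
  have hd : ∀ χ : IrrCharacter G, (χ : G → ℂ) 1 = (charDegree (χ : G → ℂ) : ℂ) := fun χ =>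
    Basic.irr_one_eq_charDegree χ.2
  have hdR : ∀ χ : IrrCharacter G, MemLocalRing M ((χ : G → ℂ) 1) := fun χ => by
    rw [hd χ]
    exact Local.memLocalRing_natCast _
  have hR1 : MemLocalRing M (∑ χ ∈ B, c χ * (χ : G → ℂ) 1) :=
    Local.memLocalRing_sum fun χ hχ => Local.memLocalRing_mul (hc χ hχ) (hdR χ)
  have hR2 : MemLocalRing M (∑ χ ∈ B, c χ ^ 2) :=
    Local.memLocalRing_sum fun χ hχ => Local.memLocalRing_pow (hc χ hχ) 2
  rw [← Local.redC_eq_iff (Local.memLocalRing_pow hR1 2) hR2, Local.redC_pow hR1,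
    Local.redC_sum fun χ hχ => Local.memLocalRing_mul (hc χ hχ) (hdR χ),
    Local.redC_sum fun χ hχ => Local.memLocalRing_pow (hc χ hχ) 2]
  rw [Finset.sum_congr rfl fun χ hχ => Local.redC_mul (hc χ hχ) (hdR χ),
    Finset.sum_congr rfl fun χ hχ => Local.redC_pow (hc χ hχ) 2]
  rw [sum_eq_sum_fixed B σ hσ hσB (fun χ => Local.redC M (c χ) * Local.redC M ((χ : G → ℂ) 1))
      (fun χ hχ => by simp only [hcσ χ hχ, hσ1 χ hχ]),
    sum_eq_sum_fixed B σ hσ hσB (fun χ => Local.redC M (c χ) ^ 2)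
      (fun χ hχ => by simp only [hcσ χ hχ])]
  have h1 : ∀ χ ∈ B.filter (fun χ => σ χ = χ),
      Local.redC M (c χ) * Local.redC M ((χ : G → ℂ) 1) = Local.redC M (c χ) := by
    intro χ hχ
    rw [Finset.mem_filter] at hχ
    by_cases he : Even (charDegree (χ : G → ℂ))
    · rw [(Local.redC_eq_zero_iff (hc χ hχ.1)).2 (hcon χ hχ.1 hχ.2 he), zero_mul]
    · rw [Nat.not_even_iff_odd] at he
      obtain ⟨m, hm⟩ := he
      rw [hd χ, Local.redC_natCast, hm]
      have h2 : ((2 * m + 1 : ℕ) : Local.ResField M) = 1 := by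
        push_cast
        rw [CharTwo.two_eq_zero, zero_mul, zero_add]
      rw [h2, mul_one]
  rw [Finset.sum_congr rfl h1]
  exact sum_pow_char 2 _ _

/-- The exponent `k` fixes the `2`-elements and inverts the elements of odd order. -/
structure Twist (G : Type*) [Group G] (k : ℕ) : Prop where
  two : ∀ g : G, (∃ j : ℕ, orderOf g = 2 ^ j) → g ^ k = g
  odd : ∀ g : G, Odd (orderOf g) → g ^ k = g⁻¹

theorem exists_two_part [Finite G] (g : G) : ∃ u y : G, u * y = g ∧ Commute u y ∧
    (∃ j : ℕ, orderOf u = 2 ^ j) ∧ Odd (orderOf y) := by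
  have : Fact (Nat.Prime 2) := ⟨Nat.prime_two⟩
  obtain ⟨u, y, h1, h2, h3, h4⟩ := PPart.exists_isPPart 2 g
  refine ⟨u, y, h1, h2, h3, ?_⟩
  rw [← Nat.not_even_iff_odd, even_iff_two_dvd]
  exact h4

namespace Twist

variable {k : ℕ}

theorem pow_mul (h : Twist G k) {u y : G} (hc : Commute u y) (hu : ∃ j : ℕ, orderOf u = 2 ^ j)
    (hy : Odd (orderOf y)) : (u * y) ^ k = u * y⁻¹ := by
  rw [hc.mul_pow, h.two u hu, h.odd y hy]

theorem pow_pow [Finite G] (h : Twist G k) (g : G) : (g ^ k) ^ k = g := by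
  obtain ⟨u, y, rfl, hc, hu, hy⟩ := exists_two_part g
  rw [h.pow_mul hc hu hy, h.pow_mul hc.inv_right hu (by rwa [orderOf_inv]), inv_inv]

theorem coprime [Finite G] (h : Twist G k) : Nat.Coprime k (Nat.card G) := by
  by_contra hcon
  obtain ⟨p, hp, hpk, hpG⟩ := Nat.Prime.not_coprime_iff_dvd.1 hcon
  have := Fact.mk hp
  obtain ⟨g, hg⟩ := exists_prime_orderOf_dvd_card' p hpG
  have h1 : g ^ k = 1 := orderOf_dvd_iff_pow_eq_one.1 (hg ▸ hpk)
  have h2 : g ≠ 1 := by
    rintro rfl
    rw [orderOf_one] at hg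
    exact hp.one_lt.ne hg
  by_cases hp2 : p = 2
  · have h3 := h.two g ⟨1, by rw [hg, hp2, pow_one]⟩
    exact h2 (h3.symm.trans h1)
  · have h3 := h.odd g (by rw [hg]; exact hp.odd_of_ne_two hp2)
    rw [h1] at h3
    exact h2 (inv_eq_one.1 h3.symm)

/-- A subgroup inherits the exponent. -/
theorem subgroup (h : Twist G k) (H : Subgroup G) : Twist H k where
  two g hg := by
    apply Subtype.ext
    rw [Subgroup.coe_pow]
    exact h.two g (by rwa [Subgroup.orderOf_coe])
  odd g hg := by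
    apply Subtype.ext
    rw [Subgroup.coe_pow, Subgroup.coe_inv]
    exact h.odd g (by rwa [Subgroup.orderOf_coe])

end Twist

variable {k : ℕ}

/-- The character `g ↦ χ (g ^ k)`. -/
noncomputable def powIrr [Finite G] (h : Twist G k) (χ : IrrCharacter G) : IrrCharacter G :=
  ⟨fun g => (χ : G → ℂ) (g ^ k),
    Cfsg.Agent.OddOrderCharacters.GaloisTwist.isIrrCharacter_pow h.coprime χ.2⟩

theorem powIrr_apply [Finite G] (h : Twist G k) (χ : IrrCharacter G) (g : G) :
    (powIrr h χ : G → ℂ) g = (χ : G → ℂ) (g ^ k) := rfl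

theorem powIrr_powIrr [Finite G] (h : Twist G k) (χ : IrrCharacter G) :
    powIrr h (powIrr h χ) = χ := by
  apply Subtype.ext
  funext g
  rw [powIrr_apply, powIrr_apply, h.pow_pow]

theorem powIrr_one [Finite G] (h : Twist G k) (χ : IrrCharacter G) :
    (powIrr h χ : G → ℂ) 1 = (χ : G → ℂ) 1 := by
  rw [powIrr_apply, one_pow]

theorem powIrr_eq_iff [Finite G] (h : Twist G k) (χ : IrrCharacter G) :
    powIrr h χ = χ ↔ ∀ g, (χ : G → ℂ) (g ^ k) = (χ : G → ℂ) g := by
  constructor
  · intro he g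
    rw [← powIrr_apply h, he]
  · intro he
    exact Subtype.ext (funext he)

/-- The bijection `g ↦ g ^ k`. -/
def powEquiv [Finite G] (h : Twist G k) : G ≃ G where
  toFun g := g ^ k
  invFun g := g ^ k
  left_inv := h.pow_pow
  right_inv := h.pow_pow

theorem powEquiv_apply [Finite G] (h : Twist G k) (g : G) : powEquiv h g = g ^ k := rfl

/-- The inner product of a function invariant under `g ↦ g ^ k` with the twisted character. -/
theorem classInner_powIrr [Fintype G] (h : Twist G k) {f : G → ℂ} (hf : ∀ g, f (g ^ k) = f g)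
    (χ : IrrCharacter G) :
    classInner f (powIrr h χ : G → ℂ) = classInner f (χ : G → ℂ) := by
  rw [Basic.classInner_def, Basic.classInner_def]
  congr 1
  refine Fintype.sum_equiv (powEquiv h) _ _ fun g => ?_
  rw [powEquiv_apply, powIrr_apply, hf]

/-- `χ (g ^ k)` agrees with the complex conjugate of `χ g` at elements of odd order, so the twisted
character lies in the block of the complex conjugate. -/
theorem sameBlock_powIrr [Finite G] {M : Ideal AlgInt} (hM : IsPModular 2 M) (h : Twist G k)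
    (χ : IrrCharacter G) :
    SameBlock M (powIrr h χ : G → ℂ) (Cfsg.Agent.S4490.cj χ : G → ℂ) := by
  classical
  have := Fintype.ofFinite G
  have : Fact (Nat.Prime 2) := ⟨Nat.prime_two⟩
  have hprime : M.IsPrime := Local.isPrime_of_isPModular hM
  refine PRegular.sameBlock_of_isPRegular hM (powIrr h χ).2
    (Cfsg.Agent.S4490.cj χ).2 fun g hg => ?_
  have hodd : Odd (orderOf g) := by
    rw [← Nat.not_even_iff_odd, even_iff_two_dvd]
    exact hg
  have h2 : centralChar (Cfsg.Agent.S4490.cj χ : G → ℂ) g = centralChar (powIrr h χ : G → ℂ) g := by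
    rw [Cfsg.Agent.S4490.centralChar_cj, Basic.centralChar_def, Basic.centralChar_def,
      powIrr_apply, h.odd g hodd, powIrr_one, Cfsg.Agent.S4490.centralizer_inv]
  rw [h2, sub_self]
  exact Local.memLocalIdeal_zero

/-- The principal `2`-block is stable under the twist. -/
theorem powIrr_mem_principalBlock [Finite G] {M : Ideal AlgInt} (hM : IsPModular 2 M)
    (h : Twist G k) {χ : IrrCharacter G} (hχ : χ ∈ principalBlock M G) :
    powIrr h χ ∈ principalBlock M G := by
  have hprime : M.IsPrime := Local.isPrime_of_isPModular hM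
  let one : IrrCharacter G := ⟨fun _ => 1, Basic.isIrrCharacter_one⟩
  have h1 : SameBlock M (one : G → ℂ) (χ : G → ℂ) := hχ
  have h2 := Cfsg.Agent.H611.RealBlock.sameBlock_cj h1
  have h3 : (Cfsg.Agent.S4490.cj one : G → ℂ) = (one : G → ℂ) := by
    funext g
    simp [Cfsg.Agent.S4490.cj_apply, one]
  rw [h3] at h2
  exact Basic.sameBlock_trans h2 (Basic.sameBlock_symm (sameBlock_powIrr hM h χ))

/-- A character of odd degree fixed by the twist lies in the principal `2`-block. -/
theorem mem_principalBlock_of_fixed [Finite G] {M : Ideal AlgInt} (hM : IsPModular 2 M)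
    (h : Twist G k) (χ : IrrCharacter G) (hχ : ∀ g, (χ : G → ℂ) (g ^ k) = (χ : G → ℂ) g)
    (hodd : ¬ 2 ∣ charDegree (χ : G → ℂ)) : χ ∈ principalBlock M G :=
  Cfsg.Agent.H611.RealBlock.mem_principalBlock_of_odd hM χ
    (Cfsg.Agent.H611.RealBlock.sameBlock_cj_of_fixed hM k h.odd χ hχ) hodd

/-- A group of even order has a nonprincipal character of odd degree fixed by the twist. -/
theorem exists_odd_fixed [Finite G] (h : Twist G k) (h2 : 2 ∣ Nat.card G) :
    ∃ χ : IrrCharacter G, (χ : G → ℂ) ≠ (fun _ => 1) ∧ ¬ 2 ∣ charDegree (χ : G → ℂ) ∧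
      ∀ g, (χ : G → ℂ) (g ^ k) = (χ : G → ℂ) g := by
  classical
  have := Fintype.ofFinite G
  have hfin := Characters.Core.finite_irr (G := G)
  have := Fintype.ofFinite (IrrCharacter G)
  by_contra hcon
  push Not at hcon
  let one : IrrCharacter G := ⟨fun _ => 1, Basic.isIrrCharacter_one⟩
  have h1 : ∑ χ : IrrCharacter G, ((charDegree (χ : G → ℂ) : ℕ) : ZMod 2) ^ 2 = 0 := by
    have h3 : (∑ χ : IrrCharacter G, (charDegree (χ : G → ℂ)) ^ 2 : ℕ) = Nat.card G := by
      have h5 := Cfsg.Agent.CharDeep.PowerDegrees.sum_sq (G := G)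
      rw [Finset.sum_congr rfl fun χ _ => by rw [Basic.irr_one_eq_charDegree χ.2]] at h5
      exact_mod_cast h5
    have h4 : (((∑ χ : IrrCharacter G, (charDegree (χ : G → ℂ)) ^ 2 : ℕ)) : ZMod 2) = 0 := by
      rw [h3]
      exact (ZMod.natCast_eq_zero_iff _ _).2 h2
    rw [← h4]
    push_cast
    rfl
  rw [sum_eq_sum_fixed Finset.univ (powIrr h) (fun χ _ => powIrr_powIrr h χ)
    (fun χ _ => Finset.mem_univ _) _ (fun χ _ => by
      have : charDegree (powIrr h χ : G → ℂ) = charDegree (χ : G → ℂ) := by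
        rw [Basic.charDegree_def, Basic.charDegree_def, powIrr_one]
      rw [this])] at h1
  rw [Finset.sum_eq_single one] at h1
  · have : charDegree (one : G → ℂ) = 1 := Basic.charDegree_of_eq (by simp [one])
    rw [this] at h1
    simp at h1
  · intro χ hχ hne
    rw [Finset.mem_filter, powIrr_eq_iff] at hχ
    by_cases hd : 2 ∣ charDegree (χ : G → ℂ)
    · rw [(ZMod.natCast_eq_zero_iff _ _).2 hd]
      simp
    · exfalso
      obtain ⟨g, hg⟩ := hcon χ (fun h => hne (Subtype.ext h)) hd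
      exact hg (hχ.2 g)
  · intro hne
    exfalso
    apply hne
    rw [Finset.mem_filter, powIrr_eq_iff]
    exact ⟨Finset.mem_univ _, fun g => rfl⟩

end Cfsg.Agent.H611.EvenFixed
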