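import Cfsg.Agent.S4490
import Cfsg.Agent.S0952
import Cfsg.Agent.Blocks.Over
import Cfsg.Agent.Blocks.PRegular
import Cfsg.Agent.Blocks.Deflate
import Cfsg.Agent.Blocks.RegularCount

/-!
# Real 2-blocks and the principal block

* `mem_principalBlock_of_odd`: an irreducible character of odd degree lying in the block of its
  complex conjugate lies in the principal 2-block.
* `sameBlock_cj_of_fixed`: a character unchanged by `g ↦ g ^ k`, where `g ^ k = g⁻¹` for all `g`
  of odd order, lies in the block of its complex conjugate.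
* `exists_sameBlock_ker`: if `χ` lies over `θ` in the principal block of the normal subgroup `N`
  then the block of `χ` contains a character with `N` in its kernel.
-/

set_option autoImplicit false

namespace Cfsg.Agent.H611.RealBlock

open Cfsg
open scoped ComplexConjugate
open Cfsg.Agent.Blocks
open Cfsg.Agent.S4490

variable {G : Type*} [Group G]

/-- An irreducible character of odd degree lying in the `2`-block of its complex conjugate lies in
the principal `2`-block. -/
theorem mem_principalBlock_of_odd [Finite G] {M : Ideal AlgInt} (hM : IsPModular 2 M)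
    (χ : IrrCharacter G) (hχ : SameBlock M (χ : G → ℂ) (cj χ : G → ℂ))
    (hodd : ¬ 2 ∣ charDegree (χ : G → ℂ)) : χ ∈ principalBlock M G := by
  classical
  have hprime : M.IsPrime := Local.isPrime_of_isPModular hM
  have : Fact (Nat.Prime 2) := ⟨Nat.prime_two⟩
  let one : IrrCharacter G := ⟨fun _ => 1, Basic.isIrrCharacter_one⟩
  have hB0 : IsPBlock M (principalBlock M G) := ⟨one, rfl⟩
  have h1mem : one ∈ principalBlock M G := Basic.mem_blockOf_self one
  have hcj0 : ∀ ψ ∈ principalBlock M G, cj ψ ∈ principalBlock M G := by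
    intro ψ hψ
    have h1 : SameBlock M (fun _ : G => (1 : ℂ)) (ψ : G → ℂ) := hψ
    show SameBlock M (fun _ : G => (1 : ℂ)) (cj ψ : G → ℂ)
    intro g
    rw [centralChar_cj]
    have h2 := h1 g⁻¹
    have h3 : centralChar (fun _ : G => (1 : ℂ)) g⁻¹ = centralChar (fun _ : G => (1 : ℂ)) g := by
      rw [Basic.centralChar_def, Basic.centralChar_def, centralizer_inv]
    rwa [h3] at h2
  have e1 := omegaL_sub hM _ hB0 hcj0 one
    (by
      have : (cj one : G → ℂ) = (one : G → ℂ) := by
        funext g
        simp [cj_apply, one]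
      rw [this]
      exact Basic.sameBlock_refl _)
    (by
      have : charDegree (one : G → ℂ) = 1 := Basic.charDegree_of_eq (by simp [one])
      rw [this]
      norm_num)
  have e2 := omegaL_sub hM _ hB0 hcj0 χ hχ hodd
  rw [Osima.omegaL_irrIdem_of_mem h1mem] at e1
  by_cases hmem : χ ∈ principalBlock M G
  · exact hmem
  · rw [Osima.omegaL_irrIdem_of_notMem hmem] at e2
    exfalso
    have e3 := Local.memLocalIdeal_sub e1 e2
    apply Local.not_memLocalIdeal_one (M := M)
    convert e3 using 1
    ring

/-- Complex conjugation is compatible with blocks. -/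
theorem sameBlock_cj [Finite G] {M : Ideal AlgInt} {χ ψ : IrrCharacter G}
    (h : SameBlock M (χ : G → ℂ) (ψ : G → ℂ)) : SameBlock M (cj χ : G → ℂ) (cj ψ : G → ℂ) := by
  intro g
  rw [centralChar_cj, centralChar_cj]
  exact h g⁻¹

/-- A character unchanged by `g ↦ g ^ k`, where `g ^ k = g⁻¹` for the elements of odd order, lies in
the block of its complex conjugate. -/
theorem sameBlock_cj_of_fixed [Finite G] {M : Ideal AlgInt} (hM : IsPModular 2 M) (k : ℕ)
    (hk₂ : ∀ g : G, Odd (orderOf g) → g ^ k = g⁻¹) (χ : IrrCharacter G)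
    (hχ : ∀ g : G, (χ : G → ℂ) (g ^ k) = (χ : G → ℂ) g) :
    SameBlock M (χ : G → ℂ) (cj χ : G → ℂ) := by
  classical
  have := Fintype.ofFinite G
  have : Fact (Nat.Prime 2) := ⟨Nat.prime_two⟩
  have hprime : M.IsPrime := Local.isPrime_of_isPModular hM
  refine PRegular.sameBlock_of_isPRegular hM χ.2 (cj χ).2 fun g hg => ?_
  have hodd : Odd (orderOf g) := by
    rw [← Nat.not_even_iff_odd, even_iff_two_dvd]
    exact hg
  have h1 : (χ : G → ℂ) g⁻¹ = (χ : G → ℂ) g := by rw [← hk₂ g hodd, hχ g]
  have h2 : centralChar (cj χ : G → ℂ) g = centralChar (χ : G → ℂ) g := by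
    rw [centralChar_cj, Basic.centralChar_def, Basic.centralChar_def, h1, centralizer_inv]
  rw [h2, sub_self]
  exact Local.memLocalIdeal_zero

/-- If `χ` lies over a character `θ` in the principal block of the normal subgroup `N`, then the
block of `χ` contains a character with `N` in its kernel. -/
theorem exists_sameBlock_ker [Fintype G] (p : ℕ) [Fact p.Prime] {M : Ideal AlgInt}
    (hM : IsPModular p M) (N : Subgroup G) [N.Normal] [Fintype N] (χ : IrrCharacter G)
    (θ : IrrCharacter N) (hover : classInner (fun n : N => (χ : G → ℂ) n) (θ : N → ℂ) ≠ 0)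
    (hθ : θ ∈ principalBlock M N) :
    ∃ (ψ : IrrCharacter G) (ψ' : IrrCharacter (G ⧸ N)), SameBlock M (χ : G → ℂ) (ψ : G → ℂ) ∧
      (ψ : G → ℂ) = (ψ' : G ⧸ N → ℂ) ∘ QuotientGroup.mk := by
  classical
  have hprime : M.IsPrime := Local.isPrime_of_isPModular hM
  have := Characters.Core.finite_irr (G := G)
  have := Fintype.ofFinite (IrrCharacter G)
  -- the sum over the `p`-regular elements of `N` is nonzero
  let f : N → ℂ := fun n => if ¬ p ∣ orderOf n then 1 else 0
  have hf : ∀ (g : G) (n : N), f (MulAut.conjNormal g n) = f n := by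
    intro g n
    have : orderOf (MulAut.conjNormal g n) = orderOf n :=
      (MulAut.conjNormal g : N ≃* N).orderOf_eq n
    simp only [f, this]
  have h1 := Over.sum_mul_eq_of_over N χ.2 θ.2 hover f hf
  have h2 := InvSum.memLocalIdeal_sum_sub (M := M) (χ := fun _ : N => (1 : ℂ)) (ψ := (θ : N → ℂ))
    (Basic.irr_isClassFunction Basic.isIrrCharacter_one) (Basic.irr_isClassFunction θ.2) hθ
    (Finset.univ.filter fun n : N => ¬ p ∣ orderOf n) (by
      intro x y hxy hx
      rw [Finset.mem_filter] at hx ⊢
      refine ⟨Finset.mem_univ _, ?_⟩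
      obtain ⟨c, hc⟩ := isConj_iff.1 hxy
      have : orderOf y = orderOf x := by
        rw [← hc]
        exact (MulAut.conj c).orderOf_eq x
      rw [this]
      exact hx.2)
  have h3 : ∑ n : N, f n * (χ : G → ℂ) n ≠ 0 := by
    intro h0
    rw [h0, zero_div] at h1
    have h4 : ∑ n ∈ Finset.univ.filter (fun n : N => ¬ p ∣ orderOf n),
        (θ : N → ℂ) n / (θ : N → ℂ) 1 = 0 := by
      have h5 : (∑ n : N, if ¬ p ∣ orderOf n then (θ : N → ℂ) n else 0) =
          ∑ n : N, f n * (θ : N → ℂ) n := by
        refine Finset.sum_congr rfl fun n _ => ?_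
        simp only [f]
        split_ifs <;> simp
      rw [← Finset.sum_div, Finset.sum_filter, h5]
      exact h1.symm
    rw [h4, sub_zero] at h2
    simp only [div_one, Finset.sum_const, nsmul_eq_mul, mul_one] at h2
    rw [Local.memLocalIdeal_natCast_iff hM] at h2
    have h5 := RegularCount.not_dvd_card_regular (G := N) (p := p)
    rw [Nat.card_eq_fintype_card, Fintype.card_subtype] at h5
    exact h5 h2
  -- expansion of the indicator function of `N`
  let h : G → ℂ := fun g => if g ∈ N then 1 else 0
  have hh : IsClassFunction G h := by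
    intro g x
    have : x * g * x⁻¹ ∈ N ↔ g ∈ N := ‹N.Normal›.mem_comm_iff.trans (by simp)
    simp only [h, this]
  have hexp := Characters.Core.classFunction_eq_sum hh
  have h6 : ∑ x ∈ Finset.univ.filter (fun x : G => ¬ p ∣ orderOf x), h x * conj ((χ : G → ℂ) x) ≠ 0 := by
    intro h0
    apply h3
    have h7 := congrArg conj h0
    rw [map_sum, map_zero] at h7
    rw [← h7, Finset.sum_filter]
    rw [← Finset.sum_filter_add_sum_filter_not Finset.univ (fun g => g ∈ N)]
    rw [Finset.sum_eq_zero (s := Finset.univ.filter (fun g => ¬ g ∈ N)), add_zero]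
    · rw [Finset.sum_subtype (p := fun g => g ∈ N) _ (by simp)]
      refine Finset.sum_congr rfl fun n _ => ?_
      have ho : orderOf (n : G) = orderOf n := Subgroup.orderOf_coe n
      simp only [f, h, ho, n.2, if_true, one_mul, Complex.conj_conj]
      split_ifs <;> simp
    · intro g hg
      have : ¬ g ∈ N := by simpa using hg
      simp [h, this]
  obtain ⟨ψ, hψ1, hψ2⟩ : ∃ ψ : IrrCharacter G, classInner h (ψ : G → ℂ) ≠ 0 ∧
      ∑ x ∈ Finset.univ.filter (fun x : G => ¬ p ∣ orderOf x),
        (ψ : G → ℂ) x * conj ((χ : G → ℂ) x) ≠ 0 := by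
    by_contra hcon
    push Not at hcon
    apply h6
    have h7 : ∀ x, h x = ∑ ψ : IrrCharacter G, classInner h (ψ : G → ℂ) * (ψ : G → ℂ) x := by
      intro x
      have := congrFun hexp x
      simpa only [Finset.sum_apply, Pi.smul_apply, smul_eq_mul] using this
    simp only [h7, Finset.sum_mul]
    rw [Finset.sum_comm]
    refine Finset.sum_eq_zero fun ψ _ => ?_
    by_cases h0 : classInner h (ψ : G → ℂ) = 0
    · simp [h0]
    · have := hcon ψ h0
      simp only [mul_assoc, ← Finset.mul_sum]
      rw [this, mul_zero]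
  have hsame : SameBlock M (χ : G → ℂ) (ψ : G → ℂ) := by
    by_contra hno
    have hno' : ¬ SameBlock M (ψ : G → ℂ) (χ : G → ℂ) := fun h => hno (Basic.sameBlock_symm h)
    have h8 := Cfsg.Agent.S0952.result p M hM ψ χ hno'
    rw [finsum_mem_eq_finite_toFinset_sum _ (Set.toFinite _)] at h8
    apply hψ2
    rw [← h8]
    refine Finset.sum_congr ?_ fun _ _ => rfl
    ext x
    simp
  obtain ⟨ψ', hψ'⟩ := Deflate.exists_deflation N (ψ : G → ℂ) ψ.2 (by
    intro h0
    apply hψ1
    have h9 := congrArg conj h0
    rw [map_sum, map_zero] at h9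
    rw [Basic.classInner_def]
    rw [← Finset.sum_filter_add_sum_filter_not Finset.univ (fun g => g ∈ N)]
    rw [Finset.sum_eq_zero (s := Finset.univ.filter (fun g => ¬ g ∈ N)), add_zero]
    · rw [Finset.sum_subtype (p := fun g => g ∈ N) _ (by simp)]
      have : ∑ a : N, h a * conj ((ψ : G → ℂ) a) = ∑ n : N, conj ((ψ : G → ℂ) n) := by
        refine Finset.sum_congr rfl fun n _ => ?_
        simp [h]
      rw [this, h9, mul_zero]
    · intro g hg
      have : ¬ g ∈ N := by simpa using hg
      simp [h, this])
  exact ⟨ψ, ψ', hsame, hψ'⟩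

end Cfsg.Agent.H611.RealBlock
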